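import Groth.Agent.H56.ExactRpush.Main
import Groth.Agent.S6244
import Groth.Agent.S6250

/-!
# Exactness of `M ↦ R^pf_*(Lf^*M ⊗^L F)` and locally constant Betti numbers
-/

set_option autoImplicit false
set_option linter.style.haveILetI false
set_option linter.unusedSectionVars false

universe u

open CategoryTheory Limits AlgebraicGeometry HomologicalComplex

attribute [local instance] HasDerivedCategory.standard

namespace Groth.Agent.H56.ExactRpush.Concl

open Groth.Agent.Lib Groth.Agent.Lib.DerivedOX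

variable {X Y : Scheme.{u}} (f : X ⟶ Y) [QuasiCompact f] [QuasiSeparated f] [DCoh.HasRpush f]
  [DCoh.HasLpull f] (F : CochainComplex X.Modules ℤ) [DCoh.HasLTensorCx F] (p : ℤ)
  [∀ y : Y, DCoh.HasLpull (Y.fromSpecResidueField y)]

theorem free_of_exact [CompactSpace Y] [QuasiSeparatedSpace Y]
    (hF : DCoh.IsQCohD (DCoh.toD X F)) (hP : DCoh.IsPerfect ((DCoh.Rpush f).obj (DCoh.toD X F)))
    [PreservesFiniteLimits ((QCohCat.isQCoh Y).ι ⋙ DerivedCategory.singleFunctor Y.Modules 0 ⋙ DCoh.Lpull f ⋙ DCoh.LTensorCx F ⋙ DCoh.Rpush f ⋙ DerivedCategory.homologyFunctor Y.Modules p)]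
    [PreservesFiniteColimits ((QCohCat.isQCoh Y).ι ⋙ DerivedCategory.singleFunctor Y.Modules 0 ⋙ DCoh.Lpull f ⋙ DCoh.LTensorCx F ⋙ DCoh.Rpush f ⋙ DerivedCategory.homologyFunctor Y.Modules p)] :
    FlatMod.IsFinLocFree (DCoh.HD ((DCoh.Rpush f).obj (DCoh.toD X F)) p) ∧
      IsLocallyConstant (fun y : Y => PerfD.betti ((DCoh.Rpush f).obj (DCoh.toD X F)) y p) := by
  obtain ⟨B, ⟨eB⟩, hB⟩ := Main.exists_iso f F hF p
  haveI := LeftExists.hasLTensorCx B
  obtain ⟨j⟩ := @hB inferInstance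
  obtain ⟨e, he, hq, hb, hpc⟩ := Main.facts (Perfect.Triangle.isPerfect_of_iso eB.symm hP) (p - 1)
  haveI := he
  haveI := preservesFiniteLimits_of_natIso j.symm
  haveI := preservesFiniteColimits_of_natIso j.symm
  obtain ⟨h1, h2⟩ := Groth.Agent.S6244.result B e p hq hb hpc
  refine ⟨TensorMod.LocFree.of_iso ((DerivedCategory.homologyFunctor Y.Modules p).mapIso eB) h2, ?_⟩
  have hf : (fun y : Y => PerfD.betti ((DCoh.Rpush f).obj (DCoh.toD X F)) y p) =
      fun y : Y => PerfD.betti (DCoh.toD Y B) y p := funext fun y => Main.betti_congr eB.symm y p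
  rw [hf]
  exact h1

theorem exact_of_const [IsNoetherian Y] [IsReduced Y]
    (hF : DCoh.IsQCohD (DCoh.toD X F)) (hP : DCoh.IsPerfect ((DCoh.Rpush f).obj (DCoh.toD X F)))
    (hc : IsLocallyConstant (fun y : Y => PerfD.betti ((DCoh.Rpush f).obj (DCoh.toD X F)) y p)) :
    PreservesFiniteLimits ((QCohCat.isQCoh Y).ι ⋙ DerivedCategory.singleFunctor Y.Modules 0 ⋙ DCoh.Lpull f ⋙ DCoh.LTensorCx F ⋙ DCoh.Rpush f ⋙ DerivedCategory.homologyFunctor Y.Modules p) ∧ PreservesFiniteColimits ((QCohCat.isQCoh Y).ι ⋙ DerivedCategory.singleFunctor Y.Modules 0 ⋙ DCoh.Lpull f ⋙ DCoh.LTensorCx F ⋙ DCoh.Rpush f ⋙ DerivedCategory.homologyFunctor Y.Modules p) := by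
  obtain ⟨B, ⟨eB⟩, hB⟩ := Main.exists_iso f F hF p
  haveI := LeftExists.hasLTensorCx B
  obtain ⟨j⟩ := @hB inferInstance
  obtain ⟨e, he, hq, hb, hpc⟩ := Main.facts (Perfect.Triangle.isPerfect_of_iso eB.symm hP) (p - 1)
  haveI := he
  have hf : (fun y : Y => PerfD.betti ((DCoh.Rpush f).obj (DCoh.toD X F)) y p) =
      fun y : Y => PerfD.betti (DCoh.toD Y B) y p := funext fun y => Main.betti_congr eB.symm y p
  rw [hf] at hc
  obtain ⟨h1, h2⟩ := Groth.Agent.S6250.result B e p hq hb hpc hc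
  exact ⟨preservesFiniteLimits_of_natIso j, preservesFiniteColimits_of_natIso j⟩

end Groth.Agent.H56.ExactRpush.Concl
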