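import Groth.Agent.H56.RelPCNoeth.Push
import Groth.Agent.H56.RelPC.Transport
import Groth.Agent.H56.ProjPC.Perf
import Groth.Agent.Lib.DerivedOX.ProjectionQCoh
import Groth.Agent.Lib.DerivedOX.ProjectionFormula
import Groth.Agent.Lib.BettiExact.LTensorTri
import Groth.Agent.Lib.SchColim29.PerfTensor

/-!
# `M ↦ R^pf_*(Lf^*M ⊗^L F)` is `M ↦ H^p(M ⊗^L Rf_*F)` on quasi-coherent modules
-/

set_option autoImplicit false
set_option linter.style.haveILetI false
set_option linter.unusedSectionVars false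

universe u

open CategoryTheory Limits AlgebraicGeometry HomologicalComplex

attribute [local instance] HasDerivedCategory.standard

namespace Groth.Agent.H56.ExactRpush.Main

open Groth.Agent.Lib Groth.Agent.Lib.DerivedOX

variable {X Y : Scheme.{u}}

/-- Quasi-isomorphic right factors give the same derived tensor functor. -/
theorem nonempty_ltensorCx_iso {F I : CochainComplex X.Modules ℤ} (s : F ⟶ I) [QuasiIso s]
    [DCoh.HasLTensorCx F] [DCoh.HasLTensorCx I] : Nonempty (DCoh.LTensorCx F ≅ DCoh.LTensorCx I) := by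
  let P := (KFlat.res X).obj F
  haveI : QuasiIso ((KFlat.aug X).app F) := KFlat.quasiIso_aug F
  haveI : QuasiIso ((KFlat.aug X).app F ≫ s) := inferInstance
  obtain ⟨a⟩ := BettiExact.LTensorTri.nonempty_iso_tensorCxQ F ((KFlat.aug X).app F) (KFlat.isKFlat_res F)
  obtain ⟨b⟩ := BettiExact.LTensorTri.nonempty_iso_tensorCxQ I ((KFlat.aug X).app F ≫ s) (KFlat.isKFlat_res F)
  exact ⟨Localization.liftNatIso DerivedCategory.Q
    (HomologicalComplex.quasiIso X.Modules (ComplexShape.up ℤ))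
    (DerivedCategory.Q ⋙ DCoh.LTensorCx F) (DerivedCategory.Q ⋙ DCoh.LTensorCx I) _ _ (a ≪≫ b.symm)⟩

/-- Projection formula as an isomorphism of functors on quasi-coherent modules. -/
theorem exists_iso (f : X ⟶ Y) [QuasiCompact f] [QuasiSeparated f] [DCoh.HasRpush f] [DCoh.HasLpull f]
    (F : CochainComplex X.Modules ℤ) [DCoh.HasLTensorCx F] (hF : DCoh.IsQCohD (DCoh.toD X F)) (p : ℤ) :
    ∃ (B : CochainComplex Y.Modules ℤ),
      Nonempty (DCoh.toD Y B ≅ (DCoh.Rpush f).obj (DCoh.toD X F)) ∧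
      ∀ [DCoh.HasLTensorCx B], Nonempty
        ((QCohCat.isQCoh Y).ι ⋙ DerivedCategory.singleFunctor Y.Modules 0 ⋙ DCoh.LTensorCx B ⋙
            DerivedCategory.homologyFunctor Y.Modules p ≅
          (QCohCat.isQCoh Y).ι ⋙ DerivedCategory.singleFunctor Y.Modules 0 ⋙ DCoh.Lpull f ⋙
            DCoh.LTensorCx F ⋙ DCoh.Rpush f ⋙ DerivedCategory.homologyFunctor Y.Modules p) := by
  obtain ⟨I, s, hI, hs⟩ := DerCat.KInjExists.hasKInjRes F
  haveI := hI
  haveI := hs
  let B := (KFlat.res Y).obj ((GammaAcyclic.pushC f).obj I)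
  let g : B ⟶ (GammaAcyclic.pushC f).obj I := (KFlat.aug Y).app _
  haveI hg : QuasiIso g := KFlat.quasiIso_aug _
  let qI := (HomotopyCategory.quotient X.Modules (.up ℤ)).obj I
  haveI := RightDerived.isIso_totalRightDerivedUnit_app_of_isKInjective (DCoh.pushKh f) I
  refine ⟨B, ⟨asIso (DerivedCategory.Q.map g) ≪≫
      ((DerivedCategory.quotientCompQhIso Y.Modules).app _).symm ≪≫
      DerivedCategory.Qh.mapIso (((Scheme.Modules.pushforward f).mapHomotopyCategoryFactors
        (ComplexShape.up ℤ)).app I).symm ≪≫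
      asIso (((DCoh.pushKh f).totalRightDerivedUnit DerivedCategory.Qh
        (HomotopyCategory.quasiIso X.Modules (ComplexShape.up ℤ))).app qI) ≪≫
      (DCoh.Rpush f).mapIso ((DerivedCategory.quotientCompQhIso X.Modules).app I ≪≫
        (asIso (DerivedCategory.Q.map s)).symm)⟩, ?_⟩
  intro _
  haveI := LeftExists.hasLTensorCx I
  have hIq : DCoh.IsQCohD (DerivedCategory.Q.obj I) := fun i =>
    (WayOut.Scheme.qc X).prop_of_iso
      ((DerivedCategory.homologyFunctor X.Modules i).mapIso (asIso (DerivedCategory.Q.map s))) (hF i)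
  obtain ⟨c⟩ := nonempty_ltensorCx_iso s
  let J := (QCohCat.isQCoh Y).ι ⋙ DerivedCategory.singleFunctor Y.Modules 0
  let ψ : J ⋙ DCoh.LTensorCx B ⟶ J ⋙ (DCoh.Lpull f ⋙ DCoh.LTensorCx I ⋙ DCoh.Rpush f) :=
    Functor.whiskerLeft J (ProjectionMap.projMap f g)
  haveI : ∀ M, IsIso (ψ.app M) := fun M =>
    ProjectionQCoh.isIso_projMap_of_isQCohD (f := f) (g := g) hIq
      (K := (DerivedCategory.singleFunctor Y.Modules 0).obj M.obj) (fun i => by
        by_cases hi : i = 0
        · subst hi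
          exact (WayOut.Scheme.qc Y).prop_of_iso
            ((DerivedCategory.singleFunctorCompHomologyFunctorIso Y.Modules 0).app M.obj).symm M.property
        · rcases lt_or_gt_of_ne hi with h | h
          · exact RpushQCoh.qc_of_isZero (DerivedCategory.isZero_of_isGE ((DerivedCategory.singleFunctor Y.Modules 0).obj M.obj) 0 i h)
          · exact RpushQCoh.qc_of_isZero (DerivedCategory.isZero_of_isLE ((DerivedCategory.singleFunctor Y.Modules 0).obj M.obj) 0 i h))
  haveI := NatIso.isIso_of_isIso_app ψ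
  exact ⟨Functor.isoWhiskerRight (asIso ψ) (DerivedCategory.homologyFunctor Y.Modules p) ≪≫
    Functor.isoWhiskerLeft J (Functor.isoWhiskerLeft (DCoh.Lpull f)
      (Functor.isoWhiskerRight c.symm (DCoh.Rpush f ⋙ DerivedCategory.homologyFunctor Y.Modules p)))⟩

/-- Perfectness from perfectness relative to the identity. -/
theorem isPerfect_of_rel_id (B : CochainComplex Y.Modules ℤ) (h : DerSch.IsPerfectRel (𝟙 Y) B) :
    DCoh.IsPerfect (DCoh.toD Y B) :=
  ProjPC.isPerfect_of_locFinite B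
    (fun m => (RelPC.isPseudoCoherentD_iff_rel (RelPC.pcBase_of_flat (𝟙 Y)) m _).2 (h.1 m)) h.2

/-- Betti numbers depend on the isomorphism class only. -/
theorem betti_congr [∀ y : Y, DCoh.HasLpull (Y.fromSpecResidueField y)] {K L : DCoh.D Y} (e : K ≅ L)
    (y : Y) (p : ℤ) : PerfD.betti K y p = PerfD.betti L y p := by
  unfold PerfD.betti
  exact ((SheafOfModules.forget _ ⋙ PresheafOfModules.evaluation _ (Opposite.op ⊤)).mapIso
    ((DerivedCategory.homologyFunctor _ p).mapIso
      ((DCoh.Lpull (Y.fromSpecResidueField y)).mapIso e))).toLinearEquiv.finrank_eq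

/-- Facts about perfect objects on quasi-compact schemes used below. -/
theorem facts [CompactSpace Y] {B : CochainComplex Y.Modules ℤ} (hB : DCoh.IsPerfect (DCoh.toD Y B))
    (m : ℤ) :
    ∃ e : ℤ, (DCoh.toD Y B).IsLE e ∧ DCoh.IsQCohD (DCoh.toD Y B) ∧
      (∀ x : Y, ∃ (U : Y.Opens) (a : ℤ), x ∈ U ∧ ∀ i : ℤ, i < a →
        IsZero ((Scheme.Modules.restrictFunctor U.ι).obj (DCoh.HD (DCoh.toD Y B) i))) ∧
      DCoh.IsPseudoCoherentD m (DCoh.toD Y B) := by
  obtain ⟨a, b, E, hEz, -, ⟨eE⟩⟩ := SchColim29.PerfTensor.flatAmp_of_isPerfect hB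
  haveI : E.IsStrictlyGE a := (CochainComplex.isStrictlyGE_iff _ _).2 fun i hi => hEz i (Or.inl hi)
  haveI : E.IsStrictlyLE b := (CochainComplex.isStrictlyLE_iff _ _).2 fun i hi => hEz i (Or.inr hi)
  haveI : (DerivedCategory.Q.obj E).IsGE a := (DerivedCategory.isGE_Q_obj_iff E a).2 inferInstance
  haveI : (DerivedCategory.Q.obj E).IsLE b := (DerivedCategory.isLE_Q_obj_iff E b).2 inferInstance
  haveI : (DCoh.toD Y B).IsGE a := DerivedCategory.TStructure.t.isGE_of_iso eE a
  refine ⟨b, DerivedCategory.TStructure.t.isLE_of_iso eE b, Perfect.QCohD.isQCohD_of_isPerfect hB,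
    fun x => ⟨⊤, a, trivial, fun i hi =>
      (Scheme.Modules.restrictFunctor _).map_isZero (DerivedCategory.isZero_of_isGE _ a i hi)⟩,
    ((Perfect.FlatPerfect.isPerfect_iff_pc_tor _).1 hB).1 m⟩

end Groth.Agent.H56.ExactRpush.Main
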